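import Cfsg.Agent.H187.F4.Defs
import Cfsg.Agent.H290.Wei.CharOne
import Cfsg.Agent.H946.ExcSameBase
import Cfsg.Agent.H325.Same.BigP

/-!
# S3691, row `F₄(q)`: multiplicities of primes in the order (helper95)

* `zt_of_one` : one prime of a class gives all;
* `val_s`, `val_t`, `val_p` : the multiplicities of the primes `s`, `t` of the classes 4, 3 and of `p` in `|F₄(p ^ f)|`.
-/

set_option autoImplicit false

namespace Cfsg.Agent.H95.F4

open Cfsg Cfsg.Agent.OrdDiv Cfsg.Agent.H436 Cfsg.Agent.H915.GN Cfsg.Agent.H264.GN Cfsg.Agent.H264.FKS Cfsg.Agent.H325.Same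
  Cfsg.Agent.H946.KZ Cfsg.Agent.H187.F4

variable {p f c : ℕ} {g : Grp}

/-- one prime of a class gives all -/
theorem zt_of_one (hp : p.Prime) (hf : 1 ≤ f) (hg : Cond g) (hch : HasChar p g) (hc : den g * c = num g) {e r : ℕ}
    (he : 3 ≤ e) (hr : Prim p (f * e) r) (hrc : r ∣ c) : ZT p f e c := by
  intro s hs
  by_cases hc0 : c = 0
  · rw [hc0]
    exact dvd_zero s
  · obtain ⟨f₁, hf₁, hfl, -, -⟩ := kd_all hp hg hch hc
    have hq : Cfsg.Agent.H425.Chr.qOf g = p ^ f₁ := by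
      cases g <;> exact hfl
    have H : Cfsg.Agent.H946.Exc.Dt p f₁ c g := ⟨hp, by omega, hc0, hg, hq, hc⟩
    have h3 : 3 ≤ f * e := he.trans (Nat.le_mul_of_pos_left e hf)
    exact (H.dvd_iff h3 hs).2 ((H.dvd_iff h3 hr).1 hrc)

theorem num_f4 (q : ℕ) : num (.f4 q) = q ^ 24 * ((q ^ 2 - 1) * (q ^ 6 - 1) * (q ^ 8 - 1) * (q ^ 12 - 1)) := rfl

/-- the multiplicity of a prime in the order -/
theorem fac_num {q : ℕ} (hq : 2 ≤ q) (s : ℕ) : (num (.f4 q)).factorization s =
    (q ^ 24).factorization s + ((q ^ 2 - 1).factorization s + (q ^ 6 - 1).factorization s +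
      (q ^ 8 - 1).factorization s + (q ^ 12 - 1).factorization s) := by
  have b2 := (sub_pos' (d := 2) hq (by norm_num)).ne'
  have b6 := (sub_pos' (d := 6) hq (by norm_num)).ne'
  have b8 := (sub_pos' (d := 8) hq (by norm_num)).ne'
  have b12 := (sub_pos' (d := 12) hq (by norm_num)).ne'
  have b24 : q ^ 24 ≠ 0 := pow_ne_zero _ (by omega)
  rw [num_f4, Nat.factorization_mul b24 (mul_ne_zero (mul_ne_zero (mul_ne_zero b2 b6) b8) b12), Finsupp.add_apply,
    Nat.factorization_mul (mul_ne_zero (mul_ne_zero b2 b6) b8) b12, Finsupp.add_apply,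
    Nat.factorization_mul (mul_ne_zero b2 b6) b8, Finsupp.add_apply, Nat.factorization_mul b2 b6, Finsupp.add_apply]

/-- the multiplicity of a prime of class 4 -/
theorem val_s (hp : p.Prime) (hf : 1 ≤ f) {s : ℕ} (hs : Prim p (f * 4) s) :
    (num (.f4 (p ^ f))).factorization s = 2 * v4 p f s := by
  have hq : 2 ≤ p ^ f := hp.two_le.trans (Nat.le_self_pow (by omega) _)
  have hs' : Prim (p ^ f) 4 s := prim_pow hf hs
  have h5 : 4 < s := lt_of_prim hs'
  rw [fac_num hq, v4]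
  have b4 := sub_pos' (d := 4) hq (by norm_num)
  have hd := hs'.dvd (m := 4) dvd_rfl
  have e24 : ((p ^ f) ^ 24).factorization s = 0 := Nat.factorization_eq_zero_of_not_dvd (hs'.not_dvd_pow _)
  have e2 : ((p ^ f) ^ 2 - 1).factorization s = 0 :=
    Nat.factorization_eq_zero_of_not_dvd (hs'.not_dvd_sub (by norm_num))
  have e6 : ((p ^ f) ^ 6 - 1).factorization s = 0 :=
    Nat.factorization_eq_zero_of_not_dvd (hs'.not_dvd_sub (by norm_num))
  obtain ⟨b, hb⟩ : ∃ b, (p ^ f) ^ 4 = b + 1 := ⟨(p ^ f) ^ 4 - 1, by omega⟩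
  rw [hb, Nat.add_sub_cancel] at b4 hd ⊢
  have x8 : (p ^ f) ^ 8 - 1 = b * (b + 2) := by
    have : (p ^ f) ^ 8 = ((p ^ f) ^ 4) ^ 2 := by rw [← pow_mul (p ^ f)]
    rw [this, hb]
    apply Nat.sub_eq_of_eq_add
    ring
  have x12 : (p ^ f) ^ 12 - 1 = b * (b * (b + 3) + 3) := by
    have : (p ^ f) ^ 12 = ((p ^ f) ^ 4) ^ 3 := by rw [← pow_mul (p ^ f)]
    rw [this, hb]
    apply Nat.sub_eq_of_eq_add
    ring
  have y8 : (b + 2).factorization s = 0 := Nat.factorization_eq_zero_of_not_dvd fun h => by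
    have := Nat.le_of_dvd (by norm_num) ((Nat.dvd_add_right hd).1 h)
    omega
  have y12 : (b * (b + 3) + 3).factorization s = 0 := Nat.factorization_eq_zero_of_not_dvd fun h => by
    have := Nat.le_of_dvd (by norm_num) ((Nat.dvd_add_right (hd.mul_right _)).1 h)
    omega
  rw [e24, e2, e6, x8, x12, Nat.factorization_mul b4.ne' (by omega), Finsupp.add_apply, y8,
    Nat.factorization_mul b4.ne' (by omega), Finsupp.add_apply, y12]
  ring

/-- the multiplicity of a prime of class 3 -/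
theorem val_t (hp : p.Prime) (hf : 1 ≤ f) {t : ℕ} (ht : Prim p (f * 3) t) :
    (num (.f4 (p ^ f))).factorization t = 2 * w3 p f t := by
  have hq : 2 ≤ p ^ f := hp.two_le.trans (Nat.le_self_pow (by omega) _)
  have ht' : Prim (p ^ f) 3 t := prim_pow hf ht
  have h3 : 3 < t := lt_of_prim ht'
  have h5 : t ≠ 4 := fun h => absurd (h ▸ ht'.prime) (by norm_num)
  rw [fac_num hq, w3]
  have b3 := sub_pos' (d := 3) hq (by norm_num)
  have hd := ht'.dvd (m := 3) dvd_rfl
  have e24 : ((p ^ f) ^ 24).factorization t = 0 := Nat.factorization_eq_zero_of_not_dvd (ht'.not_dvd_pow _)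
  have e2 : ((p ^ f) ^ 2 - 1).factorization t = 0 :=
    Nat.factorization_eq_zero_of_not_dvd (ht'.not_dvd_sub (by norm_num))
  have e8 : ((p ^ f) ^ 8 - 1).factorization t = 0 :=
    Nat.factorization_eq_zero_of_not_dvd (ht'.not_dvd_sub (by norm_num))
  obtain ⟨b, hb⟩ : ∃ b, (p ^ f) ^ 3 = b + 1 := ⟨(p ^ f) ^ 3 - 1, by omega⟩
  rw [hb, Nat.add_sub_cancel] at b3 hd ⊢
  have x6 : (p ^ f) ^ 6 - 1 = b * (b + 2) := by
    have : (p ^ f) ^ 6 = ((p ^ f) ^ 3) ^ 2 := by rw [← pow_mul (p ^ f)]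
    rw [this, hb]
    apply Nat.sub_eq_of_eq_add
    ring
  have x12 : (p ^ f) ^ 12 - 1 = b * (b * (b ^ 2 + 4 * b + 6) + 4) := by
    have : (p ^ f) ^ 12 = ((p ^ f) ^ 3) ^ 4 := by rw [← pow_mul (p ^ f)]
    rw [this, hb]
    apply Nat.sub_eq_of_eq_add
    ring
  have y6 : (b + 2).factorization t = 0 := Nat.factorization_eq_zero_of_not_dvd fun h => by
    have := Nat.le_of_dvd (by norm_num) ((Nat.dvd_add_right hd).1 h)
    omega
  have y12 : (b * (b ^ 2 + 4 * b + 6) + 4).factorization t = 0 := Nat.factorization_eq_zero_of_not_dvd fun h => by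
    have := Nat.le_of_dvd (by norm_num) ((Nat.dvd_add_right (hd.mul_right _)).1 h)
    omega
  rw [e24, e2, e8, x6, x12, Nat.factorization_mul b3.ne' (by omega), Finsupp.add_apply, y6,
    Nat.factorization_mul b3.ne' (by omega), Finsupp.add_apply, y12]
  ring

/-- the multiplicity of `p` -/
theorem val_p (hp : p.Prime) (hf : 1 ≤ f) : (num (.f4 (p ^ f))).factorization p = 24 * f := by
  have hq : 2 ≤ p ^ f := hp.two_le.trans (Nat.le_self_pow (by omega) _)
  have h0 : num (.f4 (p ^ f)) ≠ 0 := by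
    have b2 := (sub_pos' (d := 2) hq (by norm_num)).ne'
    have b6 := (sub_pos' (d := 6) hq (by norm_num)).ne'
    have b8 := (sub_pos' (d := 8) hq (by norm_num)).ne'
    have b12 := (sub_pos' (d := 12) hq (by norm_num)).ne'
    rw [num_f4]
    exact mul_ne_zero (pow_ne_zero _ (by omega)) (mul_ne_zero (mul_ne_zero (mul_ne_zero b2 b6) b8) b12)
  have h1 : den (.f4 (p ^ f)) * num (.f4 (p ^ f)) = num (.f4 (p ^ f)) := one_mul _
  rw [Cfsg.Agent.H425.PartP.v_f4 hp (by omega) h1 h0]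
  ring

end Cfsg.Agent.H95.F4
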